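import Cfsg.Agent.H0.MultM
import Cfsg.Agent.H0.MM12.D
set_option maxRecDepth 100000
set_option Elab.async false
namespace H0.QM12
open H0 BN 
noncomputable def n11 : Net := (Net.cons (nat_lit 64) (nat_lit 0x20c1008010) (Net.cons (nat_lit 32) (nat_lit 0x20000000001c52f263) (Net.cons (nat_lit 16) (nat_lit 0xc1200000c7de000093c4) (Net.cons (nat_lit 8) (nat_lit 0x800091009c00ec009c0098) (Net.cons (nat_lit 4) (nat_lit 0x1080b0200000e0b040b) (Net.cons (nat_lit 2) (nat_lit 0x2010021203101200100200) (Net.cons (nat_lit 1) (nat_lit 0x5404411141114010) (Net.cons (nat_lit 2) (nat_lit 0x2002020000020) (Net.cons (nat_lit 4) (nat_lit 0x80a0606000e04040a) (Net.cons (nat_lit 8) (nat_lit 0x800090009600bc00ac0098) (Net.cons (nat_lit 16) (nat_lit 0x41200000e45a00008fc0) (Net.cons (nat_lit 32) (nat_lit 0x20000000001e70feaa) (Net.cons (nat_lit 64) (nat_lit 0x20c1008010) Net.nil)))))))))))))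
noncomputable def n12 : Net := (Net.cons (nat_lit 64) (nat_lit 0x40080000000) (Net.cons (nat_lit 32) (nat_lit 0x40000000000bf2a2032) (Net.cons (nat_lit 16) (nat_lit 0x800000006ab00000310e) (Net.cons (nat_lit 8) (nat_lit 0x840053008e00d0006a) (Net.cons (nat_lit 4) (nat_lit 0x8020c0308080f0509) (Net.cons (nat_lit 2) (nat_lit 0x33010110210332020) (Net.cons (nat_lit 1) (nat_lit 0x4010415105000004) (Net.cons (nat_lit 2) (nat_lit 0x2000220200000000) (Net.cons (nat_lit 4) (nat_lit 0x804020c0808000008) (Net.cons (nat_lit 8) (nat_lit 0x840024008e00d00068) (Net.cons (nat_lit 16) (nat_lit 0x800000006a800000310e) (Net.cons (nat_lit 32) (nat_lit 0x40000000000bf2a2032) (Net.cons (nat_lit 64) (nat_lit 0x40080000000) Net.nil)))))))))))))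
noncomputable def n13 : Net := (Net.cons (nat_lit 64) (nat_lit 0x1800000000000) (Net.cons (nat_lit 32) (nat_lit 0x180000000000010f42900) (Net.cons (nat_lit 16) (nat_lit 0x1000022c00000d333) (Net.cons (nat_lit 8) (nat_lit 0x8000ec000000ee0011) (Net.cons (nat_lit 4) (nat_lit 0x808020a0f04010507) (Net.cons (nat_lit 2) (nat_lit 0x22200200013002131) (Net.cons (nat_lit 1) (nat_lit 0x1404111105504415) (Net.cons (nat_lit 2) (nat_lit 0x2200200000000220) (Net.cons (nat_lit 4) (nat_lit 0x808000a0006000a08) (Net.cons (nat_lit 8) (nat_lit 0x80002c000000ce0050) (Net.cons (nat_lit 16) (nat_lit 0x22c00000f340) (Net.cons (nat_lit 32) (nat_lit 0x180000000000010f42900) (Net.cons (nat_lit 64) (nat_lit 0x1800000000000) Net.nil)))))))))))))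
noncomputable def n14 : Net := (Net.cons (nat_lit 64) (nat_lit 0x1002000810050) (Net.cons (nat_lit 32) (nat_lit 0x3000000000bfe02392) (Net.cons (nat_lit 16) (nat_lit 0x100000008100002c000000d196) (Net.cons (nat_lit 8) (nat_lit 0xe000c400fe00d5) (Net.cons (nat_lit 4) (nat_lit 0x100000000000a0a060900070c000b) (Net.cons (nat_lit 2) (nat_lit 0x222312020212002303) (Net.cons (nat_lit 1) (nat_lit 0x400444510111541101) (Net.cons (nat_lit 2) (nat_lit 0x200202000020002002) (Net.cons (nat_lit 4) (nat_lit 0x80e0404080c00000c) (Net.cons (nat_lit 8) (nat_lit 0xa400c400de00d4) (Net.cons (nat_lit 16) (nat_lit 0x10000000800000044400004b9c) (Net.cons (nat_lit 32) (nat_lit 0x100300000000057e43f92) (Net.cons (nat_lit 64) (nat_lit 0x1002000810050) Net.nil)))))))))))))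
noncomputable def n15 : Net := (Net.cons (nat_lit 64) (nat_lit 0x1002080018010) (Net.cons (nat_lit 32) (nat_lit 0x10030000000009ef07286) (Net.cons (nat_lit 16) (nat_lit 0x1000008021000036580000a520) (Net.cons (nat_lit 8) (nat_lit 0x8000800068005f009e0065) (Net.cons (nat_lit 4) (nat_lit 0x100000000000800080f000500050a) (Net.cons (nat_lit 2) (nat_lit 0x2000022120303030322022) (Net.cons (nat_lit 1) (nat_lit 0x4014011111400105) (Net.cons (nat_lit 2) (nat_lit 0x2022022002200000) (Net.cons (nat_lit 4) (nat_lit 0x8000a08000a04000a) (Net.cons (nat_lit 8) (nat_lit 0x8000800014009400b80040) (Net.cons (nat_lit 16) (nat_lit 0x1000000020000016c00000afe6) (Net.cons (nat_lit 32) (nat_lit 0x3000000000c70c4580) (Net.cons (nat_lit 64) (nat_lit 0x1002080018010) Net.nil)))))))))))))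
noncomputable def n16 : Net := (Net.cons (nat_lit 64) (nat_lit 0x2000000010) (Net.cons (nat_lit 32) (nat_lit 0x200000000016b35268) (Net.cons (nat_lit 16) (nat_lit 0x1e8200008414) (Net.cons (nat_lit 8) (nat_lit 0xe000ca003000c4) (Net.cons (nat_lit 4) (nat_lit 0x30408000c04020d01) (Net.cons (nat_lit 2) (nat_lit 0x3020020303003302) (Net.cons (nat_lit 1) (nat_lit 0x5144411500141400) (Net.cons (nat_lit 2) (nat_lit 0x20020000000000) (Net.cons (nat_lit 4) (nat_lit 0x408000c04020200) (Net.cons (nat_lit 8) (nat_lit 0xe000ca001000c4) (Net.cons (nat_lit 16) (nat_lit 0x168000000014) (Net.cons (nat_lit 32) (nat_lit 0x200000000016b25268) (Net.cons (nat_lit 64) (nat_lit 0x2000000010) Net.nil)))))))))))))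
noncomputable def n17 : Net := (Net.cons (nat_lit 64) (nat_lit 0x400842182a0c450) (Net.cons (nat_lit 32) (nat_lit 0x80a0441000000000a2c64b6a) (Net.cons (nat_lit 16) (nat_lit 0x84200000020000007b620000ea8b) (Net.cons (nat_lit 8) (nat_lit 0x8000c4000000c2000100be004000c6) (Net.cons (nat_lit 4) (nat_lit 0x800000b0000000802000f080604050c) (Net.cons (nat_lit 2) (nat_lit 0x200012000002000201001012121203) (Net.cons (nat_lit 1) (nat_lit 0x4000004000004011101114001414505) (Net.cons (nat_lit 2) (nat_lit 0x2020200002002002000) (Net.cons (nat_lit 4) (nat_lit 0x800000e000004080202000804040404) (Net.cons (nat_lit 8) (nat_lit 0xc4000000c0001000e60008000c) (Net.cons (nat_lit 16) (nat_lit 0x20000006a540000ca08) (Net.cons (nat_lit 32) (nat_lit 0x80a0c01000000000cad242ec) (Net.cons (nat_lit 64) (nat_lit 0x400842182a0c450) Net.nil)))))))))))))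
noncomputable def n18 : Net := (Net.cons (nat_lit 64) (nat_lit 0x2000001020a820) (Net.cons (nat_lit 32) (nat_lit 0xa82200000000ead91f32) (Net.cons (nat_lit 16) (nat_lit 0x20000010200000798d000013a5) (Net.cons (nat_lit 8) (nat_lit 0x280000001000f30099002200c2) (Net.cons (nat_lit 4) (nat_lit 0x200000001090a0c010102000b) (Net.cons (nat_lit 2) (nat_lit 0x2002000000000310301311130230) (Net.cons (nat_lit 1) (nat_lit 0x100041044141414110) (Net.cons (nat_lit 2) (nat_lit 0x22020222020200) (Net.cons (nat_lit 4) (nat_lit 0xc0e06000804040a) (Net.cons (nat_lit 8) (nat_lit 0x80000001000e00090008a00cc) (Net.cons (nat_lit 16) (nat_lit 0x10200000498600005278) (Net.cons (nat_lit 32) (nat_lit 0xa8220000000007db1a26) (Net.cons (nat_lit 64) (nat_lit 0x2000001020a820) Net.nil)))))))))))))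
noncomputable def n19 : Net := (Net.cons (nat_lit 64) (nat_lit 0x14081000) (Net.cons (nat_lit 32) (nat_lit 0x149a44f3) (Net.cons (nat_lit 16) (nat_lit 0x100a0000e023000048d8) (Net.cons (nat_lit 8) (nat_lit 0x1400100016009100680005) (Net.cons (nat_lit 4) (nat_lit 0x600090102090702070e08) (Net.cons (nat_lit 2) (nat_lit 0x3000201000311131130030) (Net.cons (nat_lit 1) (nat_lit 0x4000100441414414140554) (Net.cons (nat_lit 2) (nat_lit 0x2000200000002020000002) (Net.cons (nat_lit 4) (nat_lit 0x600080c00080804080208) (Net.cons (nat_lit 8) (nat_lit 0x1400100076006a00ac00c0) (Net.cons (nat_lit 16) (nat_lit 0x100a0000229000006312) (Net.cons (nat_lit 32) (nat_lit 0xbd8f4948) (Net.cons (nat_lit 64) (nat_lit 0x14081000) Net.nil)))))))))))))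
noncomputable def n20 : Net := (Net.cons (nat_lit 64) (nat_lit 0x21000000000000) (Net.cons (nat_lit 32) (nat_lit 0x210000000000007f943310) (Net.cons (nat_lit 16) (nat_lit 0x100001cba0000b564) (Net.cons (nat_lit 8) (nat_lit 0x5c00c000190055) (Net.cons (nat_lit 4) (nat_lit 0x200000e06090a05040a08) (Net.cons (nat_lit 2) (nat_lit 0x3222330101130030) (Net.cons (nat_lit 1) (nat_lit 0x100004014414011544154) (Net.cons (nat_lit 2) (nat_lit 0x2020022022022000) (Net.cons (nat_lit 4) (nat_lit 0x200000206020a0004080e) (Net.cons (nat_lit 8) (nat_lit 0x48001e00ce00a4) (Net.cons (nat_lit 16) (nat_lit 0xa8ec000012a4) (Net.cons (nat_lit 32) (nat_lit 0x21000000000000df10d110) (Net.cons (nat_lit 64) (nat_lit 0x21000000000000) Net.nil)))))))))))))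
noncomputable def n21 : Net := (Net.cons (nat_lit 64) (nat_lit 0x800000001004100) (Net.cons (nat_lit 32) (nat_lit 0x800000000000000fd11def0) (Net.cons (nat_lit 16) (nat_lit 0x20000a5f00000e7bc) (Net.cons (nat_lit 8) (nat_lit 0x20041006d007200e00085) (Net.cons (nat_lit 4) (nat_lit 0x4030d0c08060b0703) (Net.cons (nat_lit 2) (nat_lit 0x20000010020220320112122) (Net.cons (nat_lit 1) (nat_lit 0x10000005550041110450011) (Net.cons (nat_lit 2) (nat_lit 0x2000000020) (Net.cons (nat_lit 4) (nat_lit 0x40006000202020008) (Net.cons (nat_lit 8) (nat_lit 0x200400040004e00720096) (Net.cons (nat_lit 16) (nat_lit 0x200008b6800001124) (Net.cons (nat_lit 32) (nat_lit 0x800000000000000ef21dc36) (Net.cons (nat_lit 64) (nat_lit 0x800000001004100) Net.nil)))))))))))))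
noncomputable def n22 : Net := (Net.cons (nat_lit 64) (nat_lit 0x100000000000000) (Net.cons (nat_lit 32) (nat_lit 0x10000000000000050150158) (Net.cons (nat_lit 16) (nat_lit 0x1000000a8c300006e13) (Net.cons (nat_lit 8) (nat_lit 0x10024002c006000ec) (Net.cons (nat_lit 4) (nat_lit 0x60d040004020d04) (Net.cons (nat_lit 2) (nat_lit 0x1031230320223130) (Net.cons (nat_lit 1) (nat_lit 0x415155410101040) (Net.cons (nat_lit 2) (nat_lit 0x20200220200000) (Net.cons (nat_lit 4) (nat_lit 0x40404040002000c) (Net.cons (nat_lit 8) (nat_lit 0x24002c00600050) (Net.cons (nat_lit 16) (nat_lit 0x1000000ac0000002c10) (Net.cons (nat_lit 32) (nat_lit 0x10000000000000050150158) (Net.cons (nat_lit 64) (nat_lit 0x100000000000000) Net.nil)))))))))))))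
noncomputable def nl2 : List Net := [n11, n12, n13, n14, n15, n16, n17, n18, n19, n20, n21, n22]
theorem nl2_ok : allL (Net.ok (nat_lit 128)) nl2 = true := by decide +kernel
noncomputable def nl : List Net := [H0.MM12.n0, H0.MM12.n1, H0.MM12.n2, H0.MM12.n3, H0.MM12.n4, H0.MM12.n5, H0.MM12.n6, H0.MM12.n7, H0.MM12.n8, H0.MM12.n9, H0.MM12.n10, n11, n12, n13, n14, n15, n16, n17, n18, n19, n20, n21, n22]
theorem nl_ok : allL (Net.ok (nat_lit 128)) nl = true := allL_append H0.MM12.nl_ok nl2_ok
noncomputable def R : Rep := mkRep (nat_lit 7) (nat_lit 128) nl (by decide +kernel) nl_ok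
def defs : List (List ℕ) := [[1, 0, 1, 0, 1, 0, 1, 1, 0, 1, 1, 3, 4, 4, 3, 6, 8, 6], [0, 1, 1, 0, 1, 1, 0, 1, 3, 4, 4, 3, 8, 6, 9], [1, 0, 1, 1, 0, 1, 4, 4, 3, 4, 6, 8, 9], [13, 11, 11, 11, 13, 11], [13, 12, 13, 12], [14, 14, 14, 11, 11, 11, 14, 11], [1, 0, 1, 0, 1, 1, 0, 1, 1, 0, 1, 1, 0, 1, 4, 4, 4, 8, 7, 6, 8], [0, 1, 1, 0, 1, 1, 0, 1, 3, 4, 4, 3, 4, 3, 7, 6, 8, 9], [0, 1, 0, 1, 1, 0, 1, 0, 1, 1, 0, 1, 0, 4, 4, 4, 4, 4, 4, 4, 4, 4, 3, 7, 8, 6, 9], [1, 0, 1, 1, 0, 1, 1, 0, 1, 1, 0, 1, 4, 4, 4, 8, 6, 8], [20, 20, 19, 19, 20, 19], [0, 1, 0, 1, 4, 4, 4, 4, 4, 3, 8, 7, 8]]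
def ch2 : List Model.Lev := [(0, [[11], [12], [14], [15], [16]], 32), (1, [[13, 14, 15]], 2)]
noncomputable def tL2 : TC.WTr := (.node (.node (.node (.node (.node (.leaf [0, 0] 0 0 false) (.leaf [5, 1] 0 0 false)) (.node (.leaf [3, 2] 0 0 false) (.leaf [6, 4] 0 0 false))) (.node (.node (.leaf [2, 1] 0 0 false) (.leaf [5, 5] 0 0 false)) (.node (.leaf [4, 2] 0 0 false) (.leaf [7, 3] 0 0 false)))) (.node (.node (.node (.leaf [1, 1] 0 0 false) (.leaf [5, 3] 0 0 false)) (.node (.leaf [4, 0] 0 0 false) (.leaf [7, 0, 1] 0 0 false))) (.node (.node (.leaf [3, 0] 0 0 false) (.leaf [6, 1] 0 0 false)) (.node (.leaf [4, 4] 0 0 false) (.leaf [7, 5] 0 0 false))))) (.node (.node (.node (.node (.leaf [1, 0] 0 0 false) (.leaf [5, 2] 0 0 false)) (.node (.leaf [3, 3] 0 0 false) (.leaf [6, 5] 0 0 false))) (.node (.node (.leaf [2, 2] 0 0 false) (.leaf [6, 0] 0 0 false)) (.node (.leaf [4, 3] 0 0 false) (.leaf [7, 4] 0 0 false)))) (.node (.node (.node (.leaf [2, 0] 0 0 false) (.leaf [5, 4] 0 0 false)) (.node (.leaf [4, 1] 0 0 false) (.leaf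 [7, 2] 0 0 false))) (.node (.node (.leaf [3, 1] 0 0 false) (.leaf [6, 3] 0 0 false)) (.leaf [5, 0] 0 0 false)))))
noncomputable def tR2 : TC.WTr := (.node (.node (.node (.node (.node (.leaf [5] 0 0 false) (.leaf [1, 5] 0 0 false)) (.node (.leaf [2, 3, 5] 0 0 false) (.leaf [1, 3, 4, 5, 6] 0 0 false))) (.node (.node (.leaf [1, 2, 4] 0 0 false) (.leaf [] 0 0 false)) (.node (.leaf [2, 4, 5] 0 0 false) (.leaf [0, 1, 2, 4, 7] 0 0 false)))) (.node (.node (.node (.leaf [] 0 0 false) (.leaf [3, 5] 0 0 false)) (.node (.leaf [0, 4] 0 0 false) (.leaf [2, 3, 4, 7] 0 0 false))) (.node (.node (.leaf [0, 3, 5] 0 0 false) (.leaf [0, 1, 3, 5, 6] 0 0 false)) (.node (.leaf [5] 0 0 false) (.leaf [3, 4, 5, 7] 0 0 false))))) (.node (.node (.node (.node (.leaf [0, 1, 5] 0 0 false) (.leaf [2, 5] 0 0 false)) (.node (.leaf [5] 0 0 false) (.leaf [5, 6] 0 0 false))) (.node (.node (.leaf [] 0 0 false) (.leaf [3, 6] 0 0 false)) (.node (.leaf [3, 4] 0 0 false) (.leaf [0, 1, 2, 3, 5, 7] 0 0 false)))) (.node (.node (.node (.leaf [0, 2, 3] 0 0 false)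 (.leaf [4, 5] 0 0 false)) (.node (.leaf [1, 4, 5] 0 0 false) (.leaf [2, 3, 5, 7] 0 0 false))) (.node (.node (.leaf [1, 3] 0 0 false) (.leaf [0, 5, 6] 0 0 false)) (.leaf [0, 5] 0 0 false)))))
noncomputable def C2 : Tail.Cfg := ⟨nat_lit 2, nat_lit 1, nat_lit 6, nat_lit 31, nat_lit 20, tL2.get, tR2.get⟩
noncomputable def tests2 : List (List ℕ × ℕ × Bool × ℕ) := [([5], 15, false, (nat_lit 0x8000000000000000000000000e000000000000000000000000000000000000000000000000000000000000000000000000000)), ([5], 16, false, (nat_lit 0x80000000000000000000e00000000000000000000000000000000000000000000000000000000000000000000000000000000)), ([5], 17, false, (nat_lit 0x800000000000000e0000000000000000000000000000000000000000000000000000000000000000000000000000000000000)), ([5], 18, false, (nat_lit 0x8000000000e000000000000000000000000000000000000000000000000000000000000000000000000000000000000000000)), ([5], 19, false, (nat_lit 0x80000e00000000000000000000000000000000000000000000000000000000000000000000000000000000000000000000000)), ([0],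 0, false, (nat_lit 0x1000000000000000000000000000000000000000000000000000000000000000000000000008)), ([3], 2, false, (nat_lit 0x200000000000000000000000080000000000)), ([3], 9, false, (nat_lit 0x1000000000000000000000000000000000000000000008000000000000000000000000000000000000000000000)), ([4], 14, false, (nat_lit 0x100000000000000000000000080000000000000000000000000000000000000000000000000000000000000000000000)), ([1], 1, false, (nat_lit 0x70000000000000000000700000000000000000000000000000000000000000000000000000000000000000000080000e00000)), ([3], 7, false, (nat_lit 0x100000000000000000000000000000000008000000000e00000000000000000000000000000000000)), ([4], 10, false, (nat_lit 0x1000080000000000000000000e00000000000000000000000000000000000000000000000000)), ([4], 13, false, (nat_lit 0x1000000000000000000080000e00000000000000000000000000000000000000000000000000000000000000000)), ([3], 5, false, (nat_lit 0x10000000000000010000000000000000000000000000000000000000000020000000000000080000000000000000000000000)), ([4],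 2, false, (nat_lit 0x10000000000000000000100000000000000000000000020000000000000000000000000000000000000000000080000000000)), ([4], 5, false, (nat_lit 0x10000000000000010000000000000000000000002000000000000000000000000000000000080000000000000000000000000)), ([2], 2, false, (nat_lit 0x10000000000000000000000000000010000000000000010000000000000000000000000000000000200000000080000000000)), ([2], 3, false, (nat_lit 0x7000000000700000000000000000000000000000000000000000000700007000000000000008000000000e000000000000000)), ([2], 4, false, (nat_lit 0x70000700000000000000000000000070000000007000000000000000000000000000000000080000e00000000000000000000)), ([3], 6, false, (nat_lit 0x7000000000700000000000000100000000000000000000000000000800000000000000e000000000000000000000000000000)), ([2], 0, false, (nat_lit 0x10000000002000010000000000000000000000000000000000000001000000000000001000000000000002000000000000008)), ([3], 4, false, (nat_lit 0x700000000000000100000000000000100000000000000000000000080000800000000000000800000000000000000000)),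 ([2], 1, false, (nat_lit 0x100001000010000000000000000000700000000000000100000000000000700000000000000800008000000000800000)), ([25, 25], 6, true, (nat_lit 0xe00000000000000000000000080000000000000000000000000000000000000000000000000000000000000000000000000000000000000000000000000000)), ([21, 21, 25], 6, true, (nat_lit 0x70000000000000000000e000080000000000000000000000000000000000000000000000000000007000000000000000000000000000000000000000000001)), ([23, 25, 23], 6, true, (nat_lit 0x7000000000e00000000000000f0000000001000000000000000000000000000000000000000000001000000000000000000000000000000000000000000007)), ([22, 22], 6, true, (nat_lit 0xe00000000150000000000000000000700007000000000000000000000000000007000000000700007000000000000000000080000700007)), ([21, 23, 21, 23, 25], 6, true, (nat_lit 0x7000000000e000000000e000170000000001000000000000007000000000000000000000000000008000000000000008000000000000000000000000000008)), ([24, 25, 24], 6, true, (nat_lit 0x70000e000000000000000000160000800007000000000000000000080000700000000070000000007000000000700000000000000000000000070000000000)),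 ([21, 22, 21, 22], 6, true, (nat_lit 0xe0000e0001d000000000e000000000f0000700000000000000000000000000000e000000000e0000e000000000000000000080000800008)), ([27, 27], 7, true, (nat_lit 0xe0000000000000000000000000000000000e0000000000000070000000000000000000000000000000000000007000070000000000000080000000000000000000000000)), ([30, 30], 7, true, (nat_lit 0xe0000000000000000000000000000000000000000000000000f0000700007000000000000000000070000700000000000000000007000000000000000000000000000000000000000000000)), ([26, 26], 7, true, (nat_lit 0xe00000000000000000000000000000f0001500000000000000100000000070000700007000000000000007000070000000000000070000000000000010000100001)), ([27, 30, 27, 30], 7, true, (nat_lit 0xe00000000000000e0000000000000000000000000000000001d000070000e000080000000000000070000e0000700000000000000e000000000000000000080000000000000000000000000)), ([28, 30, 28], 7, true, (nat_lit 0x7000000000e000000000000000000000000000000000000001d00007000010000000007000000000e0000700007000000000000008000000000000007000070000700007000070000700007)),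 ([29, 29, 30], 7, true, (nat_lit 0x70000e0000000000000000000000000000000000000000000240000700007000070000e00007000080000e0000700000000000000e000000000000007000070000700007000070000700007)), ([27, 28, 27, 28], 7, true, (nat_lit 0xe0000e0000000000000000000000000000000002b00007000080000e0000e000070000e000000000e00000000000000f00001000000000e0000f0000e0000e000070000700007)), ([26, 27, 26, 27, 28, 29], 7, true, (nat_lit 0x7000070000e0000e00000000000000000000000000003b0001f0000e0000e000160000e0000f000170000f000070000700016000160000800000000160000800008000080000800008))]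
noncomputable def rows2 : List (ℕ × List (ℕ × ℕ) × ℕ) := [(0, [(0, 1)], (nat_lit 0x0)), (1, [(1, 2), (5, 1), (6, 1)], (nat_lit 0x0)), (2, [(3, 1)], (nat_lit 0x0)), (3, [(1, 1)], (nat_lit 0x0)), (4, [(2, 1)], (nat_lit 0x0)), (5, [(4, 1)], (nat_lit 0x0)), (6, [(1, 2), (5, 1)], (nat_lit 0x904005030018190000000)), (7, [(6, 1)], (nat_lit 0x18b580030100281b0428000)), (8, [(1, 2), (5, 1), (6, 4)], (nat_lit 0x304b0006018010168610000)), (9, [(5, 1)], (nat_lit 0x0)), (10, [(6, 3)], (nat_lit 0x18b5804b0000201b8e28000)), (11, [(1, 2), (5, 1), (6, 2)], (nat_lit 0x2084eb0d900281810301f2220000)), (12, [(1, 2), (5, 1), (6, 2)], (nat_lit 0x2084eb0d900281400301f1220000)), (13, [(6, 6)], (nat_lit 0x30db400a0200301e1010000)), (14, [(1, 2), (2, 6), (5, 1), (6, 2)], (nat_lit 0x218028092003e18000009ee10000)), (15, [], (nat_lit 0x8000)), (16, [(6, 2)], (nat_lit 0x304b0006020010160810000)), (17, [(6, 4)], (nat_lit 0x30db40020300381d8410000)), (18, [], (nat_lit 0x200000)), (19, [], (nat_lit 0x1000000)), (20, [(1, 4), (5, 6), (6, 4)], (nat_lit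 0x30db40020200301d8010000))]
noncomputable def YS2 : List (List (ℕ × ℕ) × ℕ × ℕ) := [([(1, 1), (3, 6), (9, 7)], 2, (nat_lit 0x304b00060200101209d0000))]
def FS2 : List (List (ℕ × ℕ)) := [[(0, 1)], [(3, 1)], [(4, 1)], [(2, 1)], [(5, 1)], [(9, 1)]]
def av2 (x s : ℕ) : ℕ := ([[1, 6, 0, 0, 0, 7], [0, 0, 0, 1, 0, 0], [0, 0, 0, 0, 1, 0], [0, 6, 0, 0, 0, 0], [0, 0, 6, 0, 0, 0], [0, 4, 0, 0, 0, 6]].getD x []).getD s 0
def ch3 : List Model.Lev := [(0, [[19], [20], [21]], 27)]
noncomputable def tL3 : TC.WTr := (.node (.node (.node (.node (.leaf [0, 0, 0] 0 0 false) (.leaf [3, 2] 0 0 false)) (.leaf [2, 1] 0 0 false)) (.node (.leaf [1, 1, 1] 0 0 false) (.leaf [3, 0] 0 0 false))) (.node (.node (.leaf [1, 0] 0 0 false) (.leaf [2, 2, 2] 0 0 false)) (.node (.leaf [2, 0] 0 0 false) (.leaf [3, 1] 0 0 false))))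
noncomputable def tR3 : TC.WTr := (.node (.node (.node (.node (.leaf [] 0 0 false) (.leaf [2, 3] 0 0 false)) (.leaf [1, 2] 0 0 false)) (.node (.leaf [] 0 0 false) (.leaf [0, 0, 3] 0 0 false))) (.node (.node (.leaf [0, 1, 2] 0 0 false) (.leaf [] 0 0 false)) (.node (.leaf [0, 2] 0 0 false) (.leaf [1, 1, 3] 0 0 false))))
noncomputable def C3 : Tail.Cfg := ⟨nat_lit 3, nat_lit 2, nat_lit 3, nat_lit 9, nat_lit 17, tL3.get, tR3.get⟩
noncomputable def tests3 : List (List ℕ × ℕ × Bool × ℕ) := [([2], 0, false, (nat_lit 0x18000000000009)), ([2], 2, false, (nat_lit 0x300000002400000000)), ([1], 0, false, (nat_lit 0x2000000018000000060009)), ([8, 8, 8], 3, true, (nat_lit 0x180000000000012000000000000000000000)), ([6, 6, 6], 3, true, (nat_lit 0x600000000000000000000000011)), ([7, 7, 7], 3, true, (nat_lit 0xc000000000000000000004400000000)), ([6, 6, 8, 6, 8, 8], 3, true, (nat_lit 0x180000000600012000000088000000000011)), ([7, 7, 8, 7, 8, 8], 3, true, (nat_lit 0x18000c000000012001100000004400000000)), ([6, 6, 7, 6, 7, 7, 8, 8], 3,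 true, (nat_lit 0x10000c000600022003200080004400420011))]
noncomputable def rows3 : List (ℕ × List (ℕ × ℕ) × ℕ) := [(0, [(1, 1)], (nat_lit 0x0)), (1, [(0, 1)], (nat_lit 0x0)), (2, [(2, 1)], (nat_lit 0x0)), (3, [], (nat_lit 0x635070600)), (4, [], (nat_lit 0x626160600)), (5, [(0, 6)], (nat_lit 0x3060100))]
noncomputable def YS3 : List (List (ℕ × ℕ) × ℕ × ℕ) := []
def FS3 : List (List (ℕ × ℕ)) := [[(1, 1)], [(0, 1)], [(2, 1)]]
def av3 (x s : ℕ) : ℕ := ([[0, 1, 0], [0, 0, 1], [6, 0, 0]].getD x []).getD s 0
theorem c0 : Model.fixP R [0] [[13, 14, 15]] = true := by decide +kernel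
theorem c1 : Model.growP R [[13, 14, 15]] [0] 1 2 = true := by decide +kernel
theorem c2 : Model.fixP R [] [[11], [12], [14], [15], [16]] = true := by decide +kernel
theorem c3 : Model.growP R [[11], [12], [14], [15], [16]] [0, 1, 2, 3, 4] 0 32 = true := by decide +kernel
theorem c4 : rulesB R [2, 46, 1, 0] (fun i => sh 11 (C2.L i)) (fun i => sh 11 (C2.R i)) 0 31 = true := by decide +kernel
theorem c5 : allL (Tail.chkT C2 (nat_lit 92) (nat_lit 7)) ((tests2.drop 0).take 38) = true := by decide +kernel
theorem c6 : allL (Tail.rowChk C2 (nat_lit 92) (nat_lit 7) (nat_lit 3) (tests2.map fun T => T.2.2.2) (FS2 ++ YS2.map fun Y => Y.1)) ((rows2.drop 0).take 21) = true := by decide +kernel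
theorem c7 : Tail.finChk C2 (nat_lit 92) (nat_lit 7) (nat_lit 3) (nat_lit 2) (C2.p ^ 2) av2 (tests2.map fun T => T.2.2.2) FS2 YS2 rows2 = true := by decide +kernel
theorem c8 : Model.fixP R [] [[19], [20], [21]] = true := by decide +kernel
theorem c9 : Model.growP R [[19], [20], [21]] [0, 1, 2, 0, 1, 2] 0 27 = true := by decide +kernel
theorem c10 : rulesB R [2, 46, 1, 0] (fun i => sh 19 (C3.L i)) (fun i => sh 19 (C3.R i)) 0 9 = true := by decide +kernel
theorem c11 : allL (Tail.chkT C3 (nat_lit 44) (nat_lit 8)) ((tests3.drop 0).take 9) = true := by decide +kernel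
theorem c12 : allL (Tail.rowChk C3 (nat_lit 44) (nat_lit 8) (nat_lit 4) (tests3.map fun T => T.2.2.2) (FS3 ++ YS3.map fun Y => Y.1)) ((rows3.drop 0).take 6) = true := by decide +kernel
theorem c13 : Tail.finChk C3 (nat_lit 44) (nat_lit 8) (nat_lit 4) (nat_lit 3) (C3.p ^ 1) av3 (tests3.map fun T => T.2.2.2) FS3 YS3 rows3 = true := by decide +kernel
theorem c14 : defsChk R defs 11 = true := by decide +kernel
end H0.QM12
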